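import Cfsg.Agent.H991.KGV.CountA
import Cfsg.Agent.S0145
import Cfsg.Agent.Characters.Ito
import Cfsg.Agent.Characters.AverageRoots
import Cfsg.Agent.Blocks.ExistsModular
import Cfsg.Agent.Blocks.LocalRing
import Cfsg.Agent.Blocks.Residue

/-!
# KGV, task COUNT: the groups (helper991)
-/

set_option autoImplicit false
set_option linter.unusedSectionVars false

universe u

namespace Cfsg.Agent.H991.KGV

open Cfsg Finset
open scoped ComplexConjugate

section Grp

variable {X : Type u} [Group X] {V G : Subgroup X} [V.Normal] (hc : Subgroup.IsComplement' V G)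
include hc

theorem exists_vg (x : X) : ∃ v ∈ V, ∃ g ∈ G, v * g = x := by
  obtain ⟨⟨v, g⟩, h⟩ := hc.2 x
  exact ⟨v, v.2, g, g.2, h⟩

theorem vg_inj {v v' g g' : X} (hv : v ∈ V) (hv' : v' ∈ V) (hg : g ∈ G) (hg' : g' ∈ G) (h : v * g = v' * g') :
    v = v' ∧ g = g' := by
  have := hc.1 (a₁ := (⟨v, hv⟩, ⟨g, hg⟩)) (a₂ := (⟨v', hv'⟩, ⟨g', hg'⟩)) h
  exact ⟨congrArg (fun x => ((x.1 : V) : X)) this, congrArg (fun x => ((x.2 : G) : X)) this⟩

theorem commute_iff {v x : X} (hv : v ∈ V) (hx : x ∈ G) (g : G) :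
    v * x ∈ Subgroup.centralizer ({(g : X)} : Set X) ↔
      v ∈ Subgroup.centralizer ({(g : X)} : Set X) ∧ x ∈ Subgroup.centralizer ({(g : X)} : Set X) := by
  constructor
  · intro h
    rw [Subgroup.mem_centralizer_singleton_iff] at h
    have h1 : ((g : X) * v * (g : X)⁻¹) * (g * x * (g : X)⁻¹) = v * x := by
      have : ((g : X) * v * (g : X)⁻¹) * (g * x * (g : X)⁻¹) = g * (v * x) * (g : X)⁻¹ := by group
      rw [this, ← h]
      group
    obtain ⟨h2, h3⟩ := vg_inj hc (Subgroup.Normal.conj_mem ‹_› _ hv _) hv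
      (mul_mem (mul_mem g.2 hx) (inv_mem g.2)) hx h1
    rw [Subgroup.mem_centralizer_singleton_iff, Subgroup.mem_centralizer_singleton_iff]
    exact ⟨(mul_inv_eq_iff_eq_mul.1 h2).symm, (mul_inv_eq_iff_eq_mul.1 h3).symm⟩
  · rintro ⟨h1, h2⟩
    exact mul_mem h1 h2

/-- `|C_X(g)| = |C_V(g)| |C_G(g)|` -/
theorem card_centralizer [Finite X] (g : G) :
    Nat.card (Subgroup.centralizer ({(g : X)} : Set X)) =
      Nat.card ↥(V ⊓ Subgroup.centralizer ({(g : X)} : Set X)) * Nat.card (Subgroup.centralizer ({g} : Set G)) := by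
  have hmem : ∀ x : G, x ∈ Subgroup.centralizer ({g} : Set G) ↔ (x : X) ∈ Subgroup.centralizer ({(g : X)} : Set X) := by
    intro x
    rw [Subgroup.mem_centralizer_singleton_iff, Subgroup.mem_centralizer_singleton_iff]
    exact ⟨fun h => congrArg Subtype.val h, fun h => Subtype.ext h⟩
  rw [← Nat.card_prod]
  let f : ↥(V ⊓ Subgroup.centralizer ({(g : X)} : Set X)) × Subgroup.centralizer ({g} : Set G) →
      Subgroup.centralizer ({(g : X)} : Set X) := fun y => ⟨y.1 * y.2, mul_mem y.1.2.2 ((hmem _).1 y.2.2)⟩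
  have hf : Function.Bijective f := by
    constructor
    · rintro ⟨v, x⟩ ⟨v', x'⟩ h
      have h1 : (v : X) * ((x : G) : X) = (v' : X) * ((x' : G) : X) := congrArg Subtype.val h
      obtain ⟨h2, h3⟩ := vg_inj hc v.2.1 v'.2.1 x.1.2 x'.1.2 h1
      exact Prod.ext (Subtype.ext h2) (Subtype.ext (Subtype.ext h3))
    · rintro ⟨y, hy⟩
      obtain ⟨v, hv, x, hx, rfl⟩ := exists_vg hc y
      obtain ⟨h1, h2⟩ := (commute_iff hc hv hx g).1 hy
      exact ⟨(⟨v, hv, h1⟩, ⟨⟨x, hx⟩, (hmem _).2 h2⟩), rfl⟩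
  exact (Nat.card_congr (Equiv.ofBijective f hf)).symm

/-- fusion in `X` of elements of `G` -/
theorem isConj_iff' (g h : G) : IsConj (g : X) (h : X) ↔ IsConj g h := by
  constructor
  · intro hh
    obtain ⟨c, hcc⟩ := isConj_iff.1 hh
    obtain ⟨v, hv, x, hx, rfl⟩ := exists_vg hc c
    -- `v (x g x⁻¹) v⁻¹ = h`
    have h1 : (v * (x * g * x⁻¹ * v⁻¹ * (x * g * x⁻¹)⁻¹)) * (x * g * x⁻¹) = 1 * h := by
      rw [← hcc]; group
    have h2 : v * (x * g * x⁻¹ * v⁻¹ * (x * g * x⁻¹)⁻¹) ∈ V :=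
      mul_mem hv (Subgroup.Normal.conj_mem ‹_› _ (inv_mem hv) _)
    obtain ⟨-, h3⟩ := vg_inj hc h2 (one_mem V) (mul_mem (mul_mem hx g.2) (inv_mem hx)) h.2 h1
    exact isConj_iff.2 ⟨⟨x, hx⟩, Subtype.ext h3⟩
  · intro hh
    obtain ⟨c, hcc⟩ := isConj_iff.1 hh
    exact isConj_iff.2 ⟨c, congrArg Subtype.val hcc⟩

end Grp

section Count

variable {X : Type u} [Group X] [Finite X] {V G : Subgroup X} [V.Normal] (hc : Subgroup.IsComplement' V G)

/-- the inner product with `κ` -/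
noncomputable def aa [Fintype G] (κ : G → ℂ) (χ : X → ℂ) : ℂ := (Nat.card G : ℂ)⁻¹ * ∑ g : G, κ g * χ g

include hc in
/-- **The sum over all irreducible characters.** -/
theorem sum_aa [Fintype G] [Fintype (IrrCharacter X)] (κ : G → ℂ) (hκ : IsClassFunction G κ)
    (hn : ∀ g : G, ‖κ g‖ ^ 2 * (Nat.card ↥(V ⊓ Subgroup.centralizer ({(g : X)} : Set X)) : ℝ) = (Nat.card V : ℝ)) :
    ∑ χ : IrrCharacter X, ‖aa κ (χ : X → ℂ)‖ ^ 2 = (Nat.card V : ℝ) := by
  classical
  have := Fintype.ofFinite X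
  have hG : (Nat.card G : ℂ) ≠ 0 := by exact_mod_cast Nat.card_pos.ne'
  have key : ∑ χ : IrrCharacter X, ((‖aa κ (χ : X → ℂ)‖ : ℂ)) ^ 2 = (Nat.card V : ℂ) := by
    have h1 : ∀ χ : IrrCharacter X, ((‖aa κ (χ : X → ℂ)‖ : ℂ)) ^ 2 =
        ((Nat.card G : ℂ)⁻¹) ^ 2 * ∑ g : G, ∑ h : G, κ g * conj (κ h) * ((χ : X → ℂ) g * conj ((χ : X → ℂ) h)) := by
      intro χ
      rw [← Complex.mul_conj', aa, map_mul (starRingEnd ℂ), map_inv₀, map_natCast, map_sum]
      have : ∀ a b c : ℂ, a * b * (a * c) = a ^ 2 * (b * c) := fun a b c => by ring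
      rw [this, Finset.sum_mul_sum]
      congr 1
      refine Finset.sum_congr rfl fun g _ => Finset.sum_congr rfl fun h _ => ?_
      rw [map_mul (starRingEnd ℂ)]
      ring
    simp only [h1]
    rw [← Finset.mul_sum, Finset.sum_comm]
    have h2 : ∀ g : G, ∑ χ : IrrCharacter X, ∑ h : G, κ g * conj (κ h) * ((χ : X → ℂ) g * conj ((χ : X → ℂ) h)) =
        ∑ h : G, if IsConj g h then κ h * conj (κ h) *
          (Nat.card (Subgroup.centralizer ({(h : X)} : Set X)) : ℂ) else 0 := by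
      intro g
      rw [Finset.sum_comm]
      refine Finset.sum_congr rfl fun h _ => ?_
      rw [← Finset.mul_sum, S0145.sum_irr_mul_conj]
      by_cases hgh : IsConj g h
      · rw [if_pos hgh, if_pos ((isConj_iff' hc g h).2 hgh)]
        obtain ⟨c, rfl⟩ := isConj_iff.1 hgh
        rw [hκ g c]
      · rw [if_neg hgh, if_neg (fun h' => hgh ((isConj_iff' hc g h).1 h')), mul_zero]
    simp only [h2]
    rw [Finset.sum_comm]
    have h3 : ∀ h : G, (∑ g : G, if IsConj g h then κ h * conj (κ h) *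
          (Nat.card (Subgroup.centralizer ({(h : X)} : Set X)) : ℂ) else 0) = (Nat.card G : ℂ) * (Nat.card V : ℂ) := by
      intro h
      rw [← Finset.sum_filter, Finset.sum_const, nsmul_eq_mul, card_centralizer hc h]
      have h4 : (Nat.card (Subgroup.centralizer ({h} : Set G)) : ℂ) *
          ((Finset.univ.filter (fun x : G => IsConj x h)).card : ℂ) = (Nat.card G : ℂ) := by
        exact_mod_cast S0145.card_centralizer_mul_card_class h
      have h5 : ((‖κ h‖ : ℂ)) ^ 2 * (Nat.card ↥(V ⊓ Subgroup.centralizer ({(h : X)} : Set X)) : ℂ) =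
          (Nat.card V : ℂ) := by exact_mod_cast hn h
      rw [Complex.mul_conj', ← h5, ← h4]
      push_cast
      ring
    simp only [h3]
    rw [Finset.sum_const, nsmul_eq_mul, Finset.card_univ, ← Nat.card_eq_fintype_card]
    field_simp
  exact_mod_cast key

end Count

section Cong

variable {p : ℕ} {M : Ideal AlgInt}

/-- membership in `M` of a complex number -/
def InM (M : Ideal AlgInt) (x : ℂ) : Prop := ∃ α : AlgInt, α ∈ M ∧ (α : ℂ) = x

theorem InM.add {x y : ℂ} (hx : InM M x) (hy : InM M y) : InM M (x + y) := by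
  obtain ⟨a, ha, rfl⟩ := hx
  obtain ⟨b, hb, rfl⟩ := hy
  exact ⟨a + b, M.add_mem ha hb, rfl⟩

theorem InM.neg {x : ℂ} (hx : InM M x) : InM M (-x) := by
  obtain ⟨a, ha, rfl⟩ := hx
  exact ⟨-a, M.neg_mem ha, rfl⟩

theorem InM.sub {x y : ℂ} (hx : InM M x) (hy : InM M y) : InM M (x - y) := by
  rw [sub_eq_add_neg]
  exact hx.add hy.neg

theorem InM.zero : InM M 0 := ⟨0, M.zero_mem, rfl⟩

theorem InM.mul {x y : ℂ} (hx : InM M x) (hy : IsIntegral ℤ y) : InM M (x * y) := by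
  obtain ⟨a, ha, rfl⟩ := hx
  exact ⟨a * ⟨y, hy⟩, M.mul_mem_right _ ha, rfl⟩

theorem InM.sum {ι : Type*} (s : Finset ι) {f : ι → ℂ} (h : ∀ i ∈ s, InM M (f i)) : InM M (∑ i ∈ s, f i) := by
  classical
  induction s using Finset.induction_on with
  | empty => rw [Finset.sum_empty]; exact InM.zero
  | insert a s ha ih =>
    rw [Finset.sum_insert ha]
    exact (h a (Finset.mem_insert_self a s)).add (ih fun i hi => h i (Finset.mem_insert_of_mem hi))

theorem InM.int (hM : IsPModular p M) {n : ℤ} (h : InM M (n : ℂ)) : (p : ℤ) ∣ n := by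
  obtain ⟨a, ha, e⟩ := h
  have h1 : a = (n : AlgInt) := by
    apply Subtype.ext
    rw [e]
    push_cast
    rfl
  rw [h1] at ha
  exact (Blocks.LocalRing.intCast_mem_iff hM n).1 ha

/-- `1 - z` for a `p`-th root of unity -/
theorem one_sub_mem (hM : IsPModular p M) {z : ℂ} (hz : z ^ p = 1) : InM M (1 - z) := by
  have : Fact p.Prime := ⟨hM.1⟩
  have hmax := hM.2.1
  have hint : IsIntegral ℤ z := by
    refine IsIntegral.of_pow hM.1.pos ?_
    rw [hz]
    exact isIntegral_one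
  refine ⟨1 - ⟨z, hint⟩, ?_, rfl⟩
  rw [← Ideal.Quotient.eq_zero_iff_mem]
  have hchar : CharP (AlgInt ⧸ M) p := Blocks.Residue.charP_residue hM
  have h1 : (Ideal.Quotient.mk M (1 - ⟨z, hint⟩)) ^ p = 0 := by
    rw [map_sub, map_one, sub_pow_char, one_pow, ← map_pow]
    have h2 : (⟨z, hint⟩ : AlgInt) ^ p = 1 := Subtype.ext hz
    rw [h2, map_one, sub_self]
  have : M.IsPrime := hmax.isPrime
  exact pow_eq_zero_iff hM.1.ne_zero |>.1 h1

end Cong

section Main

open H644.KGV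

/-- Ito's theorem for a character -/
theorem degree_dvd {X : Type u} [Group X] [Finite X] (V : Subgroup X) [V.Normal] (hV : ∀ a ∈ V, ∀ b ∈ V, a * b = b * a)
    {χ : X → ℂ} (hχ : IsIrrCharacter X χ) {d : ℕ} (hd : χ 1 = d) : d ∣ V.index := by
  obtain ⟨n, ρ, hρ, rfl⟩ := hχ
  have h1 := Characters.Ito.finrank_dvd_index ρ V hV
  have h2 : (d : ℂ) = (n : ℂ) := by
    rw [← hd, Representation.char_one]
    simp
  have h3 : d = n := by exact_mod_cast h2
  rw [h3]
  simpa using h1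

theorem classInner_int {G : Type u} [Group G] [Fintype G] {θ ψ : G → ℂ} (hθ : IsGeneralizedCharacter G θ)
    (hψ : IsCharacter G ψ) : ∃ m : ℤ, classInner θ ψ = m := by
  obtain ⟨χ, χ', h1, h2, rfl⟩ := hθ
  obtain ⟨a, ha⟩ := Characters.Core.classInner_isNat h1 hψ
  obtain ⟨b, hb⟩ := Characters.Core.classInner_isNat h2 hψ
  refine ⟨a - b, ?_⟩
  rw [Characters.Core.classInner_sub_left, ha, hb]
  push_cast
  rfl

variable {p : ℕ} [hp : Fact p.Prime] {X : Type u} [Group X] [Finite X] {V G : Subgroup X} [V.Normal]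
  {κ : ZMod p → G → ℂ}

/-- the data of a character -/
theorem exists_m [Fintype G] (D : KData p V G κ) (χ : X → ℂ) (hχ : IsIrrCharacter X χ) {d : ℕ} (hd : χ 1 = d) :
    ∃ m : ZMod p → ℤ, (∀ a, a ≠ 0 → aa (κ a) χ = ∑ k : ZMod p, (ZMod.stdAddChar (a * k) : ℂ) * (m k : ℂ)) ∧
      (p : ℤ) ∣ (Nat.card G : ℤ) * (∑ k, m k) - d := by
  classical
  have hG : (Nat.card G : ℂ) ≠ 0 := by exact_mod_cast Nat.card_pos.ne'
  obtain ⟨θ, hθ, hκ⟩ := D.uint
  have hres : IsCharacter G (fun g : G => χ g) :=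
    Characters.Core.isCharacter_comp G.subtype (Characters.Core.isIrr_isCharacter hχ)
  have hcj : IsCharacter G (fun g : G => conj (χ g)) := Characters.Core.isCharacter_conj hres
  have hm : ∀ k, ∃ m : ℤ, (Nat.card G : ℂ)⁻¹ * ∑ g : G, θ k g * χ g = m := by
    intro k
    obtain ⟨m, hm⟩ := classInner_int (hθ k) hcj
    refine ⟨m, ?_⟩
    rw [← hm, classInner]
    simp only [Complex.conj_conj]
  choose m hm using hm
  have h1 : ∀ a, a ≠ 0 → aa (κ a) χ = ∑ k : ZMod p, (ZMod.stdAddChar (a * k) : ℂ) * (m k : ℂ) := by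
    intro a ha
    rw [aa]
    simp only [hκ a ha, Finset.sum_mul]
    rw [Finset.sum_comm, Finset.mul_sum]
    refine Finset.sum_congr rfl fun k _ => ?_
    rw [← hm k, Finset.mul_sum, Finset.mul_sum, Finset.mul_sum]
    refine Finset.sum_congr rfl fun g _ => ?_
    ring
  refine ⟨m, h1, ?_⟩
  obtain ⟨M, hM⟩ := Blocks.ExistsModular.exists_isPModular hp.out
  apply InM.int hM
  have hz : ∀ x : ZMod p, (ZMod.stdAddChar x : ℂ) ^ p = 1 := by
    intro x
    rw [← AddChar.map_nsmul_eq_pow, nsmul_eq_mul, ZMod.natCast_self, zero_mul, AddChar.map_zero_eq_one]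
  have hχint : ∀ g : X, IsIntegral ℤ (χ g) := fun g => by
    obtain ⟨n, ρ, -, rfl⟩ := hχ
    exact Characters.AverageRoots.isIntegral_character ρ g
  have h10 : (1 : ZMod p) ≠ 0 := one_ne_zero
  -- `|G| A - χ(1)`
  have h2 : InM M ((Nat.card G : ℂ) * aa (κ 1) χ - d) := by
    have e1 : (Nat.card G : ℂ) * aa (κ 1) χ = ∑ g : G, κ 1 g * χ g := by
      rw [aa, mul_inv_cancel_left₀ hG]
    rw [e1, ← Finset.add_sum_erase _ _ (Finset.mem_univ (1 : G)), D.one 1 h10, one_mul]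
    have e2 : χ ((1 : G) : X) = d := hd
    rw [e2, add_sub_cancel_left]
    refine InM.sum _ fun g hg => ?_
    obtain ⟨y, hy, e⟩ := D.ideal 1 h10 g (Finset.ne_of_mem_erase hg)
    rw [e, mul_assoc]
    exact (one_sub_mem hM (hz 1)).mul (hy.mul (hχint g))
  have h3 : InM M (∑ k : ZMod p, (1 - (ZMod.stdAddChar (1 * k) : ℂ)) * (m k : ℂ)) := by
    refine InM.sum _ fun k _ => ?_
    exact (one_sub_mem hM (hz _)).mul (by simpa using (isIntegral_algebraMap (R := ℤ) (x := m k) (A := ℂ)))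
  have h4 := h2.add (h3.mul (y := (Nat.card G : ℂ))
    (by simpa using (isIntegral_algebraMap (R := ℤ) (x := (Nat.card G : ℤ)) (A := ℂ))))
  rw [h1 1 h10] at h4
  convert h4 using 1
  push_cast
  simp only [sub_mul, one_mul, Finset.sum_sub_distrib]
  ring

/-- **The final count.** -/
theorem count : Count.{u} := by
  intro p hp X _ _ V G _ hVp hpi hcen hc κ D
  classical
  have := Fintype.ofFinite G
  have := Fintype.ofFinite X
  have hfin : Finite (IrrCharacter X) := Characters.Core.finite_irr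
  have := Fintype.ofFinite (IrrCharacter X)
  have hab : ∀ a ∈ V, ∀ b ∈ V, a * b = b * a := by
    intro a ha b hb
    have h1 : a ∈ Subgroup.centralizer (V : Set X) := by rw [hcen]; exact ha
    exact ((Subgroup.mem_centralizer_iff.1 h1) b hb).symm
  have hdeg : ∀ χ : IrrCharacter X, ∃ d : ℕ, (χ : X → ℂ) 1 = d := fun χ => by
    obtain ⟨d, -, h⟩ := Characters.Core.isIrr_apply_one χ.2
    exact ⟨d, h⟩
  choose d hd using hdeg
  choose m hm hmd using fun χ : IrrCharacter X => exists_m D (χ : X → ℂ) χ.2 (hd χ)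
  have hS : ∀ χ, ¬ (p : ℤ) ∣ ∑ k, m χ k := by
    intro χ h
    have h1 := degree_dvd V hab χ.2 (hd χ)
    have h2 : (p : ℤ) ∣ d χ := by
      have h3 := dvd_sub (h.mul_left (Nat.card G : ℤ)) (hmd χ)
      rwa [sub_sub_cancel] at h3
    exact hpi ((Int.natCast_dvd_natCast.1 h2).trans h1)
  have hp1 : (0 : ℝ) < (p : ℝ) - 1 := by
    have : (1 : ℝ) < p := by exact_mod_cast hp.out.one_lt
    linarith
  -- the sum over the characters
  have hcls : ∀ a, a ≠ 0 → IsClassFunction G (κ a) := by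
    intro a ha g h
    obtain ⟨θ, hθ, hκ⟩ := D.uint
    rw [hκ a ha, hκ a ha]
    refine Finset.sum_congr rfl fun k _ => ?_
    congr 1
    obtain ⟨ψ, ψ', h1, h2, e⟩ := hθ k
    rw [e, Pi.sub_apply, Pi.sub_apply, Characters.Core.isCharacter_isClassFunction h1,
      Characters.Core.isCharacter_isClassFunction h2]
  have hsum : ∑ χ : IrrCharacter X, ∑ a ∈ (univ : Finset (ZMod p)).erase 0, ‖aa (κ a) (χ : X → ℂ)‖ ^ 2 =
      ((p : ℝ) - 1) * Nat.card V := by
    rw [Finset.sum_comm]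
    rw [Finset.sum_congr rfl fun a ha => sum_aa hc (κ a) (hcls a (Finset.ne_of_mem_erase ha))
      (D.norm a (Finset.ne_of_mem_erase ha))]
    rw [Finset.sum_const, Finset.card_erase_of_mem (Finset.mem_univ _), Finset.card_univ, ZMod.card, nsmul_eq_mul,
      Nat.cast_sub hp.out.one_le, Nat.cast_one]
  have hval : ∀ χ : IrrCharacter X, ∑ a ∈ (univ : Finset (ZMod p)).erase 0, ‖aa (κ a) (χ : X → ℂ)‖ ^ 2 =
      ((p * ∑ k, m χ k ^ 2 - (∑ k, m χ k) ^ 2 : ℤ) : ℝ) := by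
    intro χ
    rw [← parseval']
    refine Finset.sum_congr rfl fun a ha => ?_
    rw [hm χ a (Finset.ne_of_mem_erase ha)]
  have hge : ∀ χ : IrrCharacter X, (p : ℝ) - 1 ≤
      ∑ a ∈ (univ : Finset (ZMod p)).erase 0, ‖aa (κ a) (χ : X → ℂ)‖ ^ 2 := by
    intro χ
    rw [hval]
    exact_mod_cast (arith (m χ) (hS χ)).1
  have hk : Nat.card (ConjClasses X) = Fintype.card (IrrCharacter X) := by
    rw [← Characters.Core.card_irr, Nat.card_eq_fintype_card]
  have h1 : (Fintype.card (IrrCharacter X) : ℝ) * ((p : ℝ) - 1) ≤ ((p : ℝ) - 1) * Nat.card V := by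
    rw [← hsum, ← nsmul_eq_mul, ← Finset.card_univ, ← Finset.sum_const]
    exact Finset.sum_le_sum fun χ _ => hge χ
  refine ⟨?_, ?_⟩
  · rw [hk]
    rw [mul_comm] at h1
    exact_mod_cast le_of_mul_le_mul_left h1 hp1
  · intro heq χ hχ e he
    have h2 : ∑ χ : IrrCharacter X, ∑ a ∈ (univ : Finset (ZMod p)).erase 0, ‖aa (κ a) (χ : X → ℂ)‖ ^ 2 =
        ∑ _χ : IrrCharacter X, ((p : ℝ) - 1) := by
      rw [hsum, Finset.sum_const, Finset.card_univ, ← hk, heq, nsmul_eq_mul, mul_comm]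
    have h3 := (Finset.sum_eq_sum_iff_of_le (fun χ _ => hge χ)).1 h2.symm ⟨χ, hχ⟩ (Finset.mem_univ _)
    rw [hval] at h3
    have h4 : (p * ∑ k, m ⟨χ, hχ⟩ k ^ 2 - (∑ k, m ⟨χ, hχ⟩ k) ^ 2 : ℤ) = (p : ℤ) - 1 := by
      exact_mod_cast h3.symm
    have h5 := (arith _ (hS ⟨χ, hχ⟩)).2 h4
    have h6 := hmd ⟨χ, hχ⟩
    have h7 : d ⟨χ, hχ⟩ = e := by
      have : ((d ⟨χ, hχ⟩ : ℕ) : ℂ) = e := by rw [← hd ⟨χ, hχ⟩, ← he]
      exact_mod_cast this
    rw [h7] at h6
    rcases h5 with h5 | h5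
    · left
      rw [← Int.natCast_modEq_iff]
      refine (Int.modEq_iff_dvd.2 ?_)
      have h8 := dvd_sub h6 (h5.mul_left (Nat.card G : ℤ))
      have h9 : (Nat.card G : ℤ) * (∑ k, m ⟨χ, hχ⟩ k) - e - (Nat.card G : ℤ) * ((∑ k, m ⟨χ, hχ⟩ k) - 1) =
        (Nat.card G : ℤ) - e := by ring
      rwa [h9] at h8
    · right
      rw [← Int.natCast_modEq_iff]
      refine (Int.modEq_iff_dvd.2 ?_)
      have h8 := dvd_sub h6 (h5.mul_left (Nat.card G : ℤ))
      have h9 : (Nat.card G : ℤ) * (∑ k, m ⟨χ, hχ⟩ k) - e - (Nat.card G : ℤ) * ((∑ k, m ⟨χ, hχ⟩ k) + 1) =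
        ((0 : ℕ) : ℤ) - ((e + Nat.card G : ℕ) : ℤ) := by push_cast; ring
      rwa [h9] at h8

end Main

end Cfsg.Agent.H991.KGV
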