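import Cfsg.Agent.H991.HD.Lift
import Cfsg.Agent.H644.KGV.Defs

/-!
# Team KGV, NT1: the Hasse–Davenport lifting relation (helper991)
-/

set_option autoImplicit false

namespace Cfsg.Agent.H991.KGV

open Cfsg.Agent.H644.KGV

theorem mulNorm_apply {K L : Type*} [Field K] [Field L] [Algebra K L] [FiniteDimensional K L] (χ : MulChar K ℂ) (x : L) :
    mulNorm χ x = χ (Algebra.norm K x) := by
  by_cases hx : x = 0
  · subst hx
    rw [Algebra.norm_zero, MulChar.map_zero, MulChar.map_zero]
  · have hu : IsUnit x := isUnit_iff_ne_zero.2 hx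
    obtain ⟨u, rfl⟩ := hu
    unfold mulNorm
    rw [MulChar.ofUnitHom_coe]
    show ((χ.toUnitHom (Units.map (Algebra.norm K : L →* K) u) : ℂˣ) : ℂ) = _
    rw [MulChar.coe_toUnitHom]
    rfl

theorem addTrace_apply {K : Type*} (L : Type*) [Field K] [Field L] [Algebra K L] (ψ : AddChar K ℂ) (x : L) :
    addTrace L ψ x = ψ (Algebra.trace K L x) := rfl

/-- **NT1**: the Hasse–Davenport lifting relation. -/
theorem hdLift : HDLift := by
  intro K L _ _ _ _ _ χ ψ hψ
  have : FiniteDimensional K L := Module.Finite.of_finite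
  unfold gaussSum
  rw [← HD.lift (L := L) χ ψ hψ]
  congr 1
  refine Finset.sum_congr rfl fun x _ => ?_
  rw [mulNorm_apply, addTrace_apply]

end Cfsg.Agent.H991.KGV
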