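import Cfsg.Agent.H644.KGV.Goals

/-!
# KGV, task COUNT: arithmetic (helper991)
-/

set_option autoImplicit false

namespace Cfsg.Agent.H991.KGV

open Finset
open scoped ComplexConjugate

section Arith

variable {p : ℕ} [hp : Fact p.Prime]

/-- **The variance of an integer valued function on `ZMod p` with sum prime to `p`.** -/
theorem arith (m : ZMod p → ℤ) (hS : ¬ (p : ℤ) ∣ ∑ k, m k) :
    (p : ℤ) - 1 ≤ p * ∑ k, m k ^ 2 - (∑ k, m k) ^ 2 ∧
      (p * ∑ k, m k ^ 2 - (∑ k, m k) ^ 2 = (p : ℤ) - 1 →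
        (p : ℤ) ∣ (∑ k, m k) - 1 ∨ (p : ℤ) ∣ (∑ k, m k) + 1) := by
  have hp2 : (2 : ℤ) ≤ p := by exact_mod_cast hp.out.two_le
  set S := ∑ k, m k with hSdef
  set c := S / p with hc
  set r := S % p with hr
  have hSr : S = p * c + r := by rw [hc, hr]; exact (Int.mul_ediv_add_emod S p).symm
  have hr0 : 0 ≤ r := Int.emod_nonneg _ (by omega)
  have hrp : r < p := Int.emod_lt_of_pos _ (by omega)
  have hr1 : 1 ≤ r := by
    rcases hr0.lt_or_eq with h | h
    · omega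
    · exact absurd ⟨c, by rw [hSr, ← h, add_zero]⟩ hS
  have hcard : ∑ _k : ZMod p, (1 : ℤ) = p := by
    rw [Finset.sum_const, Finset.card_univ, ZMod.card]
    simp
  have h1 : ∑ k, (m k - c) = r := by
    rw [Finset.sum_sub_distrib, ← hSdef]
    have : ∑ _k : ZMod p, c = p * c := by
      rw [Finset.sum_const, Finset.card_univ, ZMod.card, nsmul_eq_mul]
    rw [this, hSr]; ring
  have h2 : r ≤ ∑ k, (m k - c) ^ 2 := by
    rw [← h1]
    exact Finset.sum_le_sum fun k _ => Int.le_self_sq _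
  have h3 : ∑ k, (m k - c) ^ 2 = ∑ k, m k ^ 2 - 2 * c * S + p * c ^ 2 := by
    have : ∀ k, (m k - c) ^ 2 = m k ^ 2 - 2 * c * m k + c ^ 2 := fun k => by ring
    simp only [this]
    rw [Finset.sum_add_distrib, Finset.sum_sub_distrib, ← Finset.mul_sum, ← hSdef, Finset.sum_const,
      Finset.card_univ, ZMod.card, nsmul_eq_mul]
  have h4 : p * ∑ k, m k ^ 2 - S ^ 2 = p * ∑ k, (m k - c) ^ 2 - r ^ 2 := by
    rw [h3, hSr]; ring
  have h5 : (p : ℤ) * r ≤ p * ∑ k, (m k - c) ^ 2 := by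
    exact mul_le_mul_of_nonneg_left h2 (by omega)
  have h6 : 0 ≤ (r - 1) * (p - 1 - r) := mul_nonneg (by omega) (by omega)
  refine ⟨by rw [h4]; nlinarith, fun he => ?_⟩
  rw [h4] at he
  have h7 : (r - 1) * (p - 1 - r) = 0 := by nlinarith
  rcases mul_eq_zero.1 h7 with h | h
  · left
    exact ⟨c, by rw [hSr]; linarith⟩
  · right
    exact ⟨c + 1, by rw [hSr]; linarith⟩

/-- Parseval -/
theorem parseval (m : ZMod p → ℤ) :
    ∑ a : ZMod p, ‖∑ k : ZMod p, (ZMod.stdAddChar (a * k) : ℂ) * (m k : ℂ)‖ ^ 2 = p * ∑ k, (m k : ℝ) ^ 2 := by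
  have key : ∑ a : ZMod p, ((‖∑ k : ZMod p, (ZMod.stdAddChar (a * k) : ℂ) * (m k : ℂ)‖ : ℂ)) ^ 2 =
      p * ∑ k, (m k : ℂ) ^ 2 := by
    have h1 : ∀ a : ZMod p, ((‖∑ k : ZMod p, (ZMod.stdAddChar (a * k) : ℂ) * (m k : ℂ)‖ : ℂ)) ^ 2 =
        ∑ k : ZMod p, ∑ l : ZMod p, (ZMod.stdAddChar (a * (k - l)) : ℂ) * ((m k : ℂ) * (m l : ℂ)) := by
      intro a
      rw [← Complex.mul_conj', map_sum, Finset.sum_mul_sum]
      refine Finset.sum_congr rfl fun k _ => Finset.sum_congr rfl fun l _ => ?_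
      rw [map_mul (starRingEnd ℂ), map_intCast (starRingEnd ℂ), ← AddChar.map_neg_eq_conj, mul_sub, sub_eq_add_neg, AddChar.map_add_eq_mul]
      ring
    simp only [h1]
    rw [Finset.sum_comm]
    rw [Finset.mul_sum]
    refine Finset.sum_congr rfl fun k _ => ?_
    rw [Finset.sum_comm]
    rw [Finset.sum_eq_single k]
    · rw [← Finset.sum_mul]
      have := AddChar.sum_mulShift (ψ := ZMod.stdAddChar) (k - k) (ZMod.isPrimitive_stdAddChar p)
      rw [this, if_pos (sub_self k), ZMod.card]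
      ring
    · intro l _ hl
      rw [← Finset.sum_mul]
      have := AddChar.sum_mulShift (ψ := ZMod.stdAddChar) (k - l) (ZMod.isPrimitive_stdAddChar p)
      rw [this, if_neg (sub_ne_zero.2 (Ne.symm hl)), Nat.cast_zero, zero_mul]
    · intro h
      exact absurd (Finset.mem_univ _) h
  exact_mod_cast key

theorem parseval' (m : ZMod p → ℤ) :
    ∑ a ∈ (univ : Finset (ZMod p)).erase 0, ‖∑ k : ZMod p, (ZMod.stdAddChar (a * k) : ℂ) * (m k : ℂ)‖ ^ 2 =
      ((p * ∑ k, m k ^ 2 - (∑ k, m k) ^ 2 : ℤ) : ℝ) := by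
  have h1 := parseval m
  rw [← Finset.add_sum_erase _ _ (Finset.mem_univ (0 : ZMod p))] at h1
  have h2 : ‖∑ k : ZMod p, (ZMod.stdAddChar ((0 : ZMod p) * k) : ℂ) * (m k : ℂ)‖ ^ 2 = ((∑ k, m k : ℤ) : ℝ) ^ 2 := by
    simp only [zero_mul, AddChar.map_zero_eq_one, one_mul]
    rw [← Int.cast_sum, Complex.norm_intCast, sq_abs]
  rw [h2] at h1
  push_cast
  push_cast at h1
  linarith

end Arith

end Cfsg.Agent.H991.KGV
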